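import Cfsg.Agent.H290.ElCross
import Cfsg.Agent.H250.EqD.DdN
import Cfsg.Agent.H59.EP.UB

/-!
# S5745, layer ENUM: the final tables (helper252)

`UB B`: the bound for `|G|` when `|H|` divides `B` (`H59.EP.EPT.index_le_gen_fin`), evaluated;
`chk D Y al`: the kernel test: all names of the region `reg D`, all `q`: dead by the order, or by `UB`, or in the list `al`.
-/

set_option autoImplicit false

namespace Cfsg.Agent.H252.EN

open Cfsg.Agent.H902 Cfsg.Agent.H290.ElReg Cfsg.Agent.H290.ElTab Cfsg.Agent.H290.ElCross Cfsg.Agent.H59.EP Finset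

/-! ### computable bounds -/

/-- forced evaluation -/
def force {α : Type} (n : ℕ) (f : ℕ → α) : α := Nat.rec (f 0) (fun k _ => f (k + 1)) n

theorem force_eq {α : Type} (n : ℕ) (f : ℕ → α) : force n f = f n := by
  cases n <;> rfl

/-- the exponent of `r` (fuel `k`) -/
def vf (r : ℕ) : ℕ → ℕ → ℕ
  | 0, _ => 0
  | k + 1, B => if B % r = 0 then vf r k (B / r) + 1 else 0

/-- the factorisation over the primes below 620 -/
def fac (B : ℕ) : List (ℕ × ℕ) := (prs.filter fun r => B % r == 0).map fun r => (r, vf r 400 B)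

theorem fac_prime {B : ℕ} : ∀ x ∈ fac B, x.1.Prime ∧ 0 < x.2 := by
  intro x hx
  obtain ⟨r, hr, rfl⟩ := List.mem_map.1 hx
  obtain ⟨h1, h2⟩ := List.mem_filter.1 hr
  refine ⟨prs_prime r h1, ?_⟩
  show 0 < vf r (399 + 1) B
  rw [vf, if_pos (by simpa using h2)]
  omega

theorem prs_nodup : prs.Nodup := by decide +kernel

theorem fac_nodup {B : ℕ} : ((fac B).map Prod.fst).Nodup := by
  rw [fac, List.map_map]
  have h1 : (Prod.fst ∘ fun r => (r, vf r 400 B)) = id := rfl
  rw [h1, List.map_id]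
  exact prs_nodup.filter _

/-- `gal`, with lists -/
def galC (s e : ℕ) : ℕ :=
  ((List.range e).map fun j => ((List.range (1 + j)).map fun i => s ^ e - s ^ i).prod /
    ((List.range (1 + j)).map fun i => s ^ (1 + j) - s ^ i).prod).sum

theorem galC_eq (s e : ℕ) : galC s e = gal s e := by
  have h1 : Finset.Icc 1 e = Finset.Ico 1 (e + 1) := by
    ext x
    simp
  rw [gal, h1, Finset.sum_Ico_eq_sum_range, Nat.add_sub_cancel]
  rfl

/-- the bound for `|G|` from the factorisation of a multiple of `|H|` -/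
def ubl (l : List (ℕ × ℕ)) (B : ℕ) : ℕ :=
  (1 + ((l.map fun x => gal x.1 x.2).sum * (B / 6) + B ^ 2 / 60 + B ^ 3 / 12744000) * (2 * (B / 6))) * B

/-- the same, evaluated -/
def UB (B : ℕ) : ℕ :=
  (1 + (((fac B).map fun x => galC x.1 x.2).sum * (B / 6) + B ^ 2 / 60 + B ^ 3 / 12744000) * (2 * (B / 6))) * B

theorem UB_eq (B : ℕ) : UB B = ubl (fac B) B := by
  rw [UB, ubl]
  simp only [galC_eq]

/-- `B` is factored completely -/
def good (B : ℕ) : Bool := ((fac B).map fun x => x.1 ^ x.2).prod == B && Nat.blt B (60 ^ 61)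

theorem good_spec {B : ℕ} (h : good B = true) : ((fac B).map fun x => x.1 ^ x.2).prod = B ∧ B < 60 ^ 61 := by
  rw [good, Bool.and_eq_true] at h
  exact ⟨by simpa using h.1, by simpa [Nat.blt_eq] using h.2⟩

/-- `g` is at most the bound for every multiple of `|H|` (the form in which the index bound is used) -/
def Ub (B g : ℕ) : Prop :=
  ∀ l : List (ℕ × ℕ), (∀ x ∈ l, x.1.Prime ∧ 0 < x.2) → (l.map Prod.fst).Nodup →
    (l.map fun x => x.1 ^ x.2).prod = B → B < 60 ^ 61 → g ≤ ubl l B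

theorem Ub.le {B g : ℕ} (h : Ub B g) (hB : good B = true) : g ≤ UB B := by
  obtain ⟨h1, h2⟩ := good_spec hB
  rw [UB_eq]
  exact h _ fac_prime fac_nodup h1 h2

/-! ### orders -/

/-- the order of the simple group of shape `X` over `l ^ a` -/
def od (X : Art.Sh) (l a : ℕ) : ℕ := (l ^ a) ^ Art.NN X * numL X (l ^ a) / Art.dd X (l ^ a)

theorem real_pos {X : Art.Sh} {l a t : ℕ} (h : Art.Real X l a t) : 0 < Art.dd X (l ^ a) := by
  have hok := h.ok
  cases X <;>
    first
    | exact Nat.one_pos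
    | exact Nat.gcd_pos_of_pos_left _ (Nat.succ_pos _)
    | exact Nat.gcd_pos_of_pos_left _ (lt_of_lt_of_le (by norm_num) hok.1)

theorem real_eq {X : Art.Sh} {l a t : ℕ} (h : Art.Real X l a t) : t = od X l a := by
  rw [od, numL_eq, ← h.eq, Nat.mul_div_cancel_left _ (real_pos h)]

/-- the order of the outer automorphism group -/
def ouN : Art.Sh → ℕ → ℕ → ℕ
  | .L n, l, a => (if n = 2 then 1 else 2) * Nat.gcd n (l ^ a - 1) * a
  | .C m, l, a => (if m = 2 ∧ l = 2 then 2 else 1) * Nat.gcd 2 (l ^ a - 1) * a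
  | .U n, l, a => 2 * Nat.gcd n (l ^ a + 1) * a
  | .D m, l, a => (if m = 4 then 6 else 2) * Nat.gcd 4 ((l ^ a) ^ m - 1) * a
  | .DD m, l, a => 2 * Nat.gcd 4 ((l ^ a) ^ m + 1) * a
  | .G2, l, a => (if l = 3 then 2 else 1) * a
  | .F4, l, a => (if l = 2 then 2 else 1) * a
  | .E6, l, a => 2 * Nat.gcd 3 (l ^ a - 1) * a
  | .E7, l, a => Nat.gcd 2 (l ^ a - 1) * a
  | .E8, _, a => a
  | .TE6, l, a => 2 * Nat.gcd 3 (l ^ a + 1) * a
  | .TD4, _, a => 3 * a
  | .Sz, _, a => a
  | .Ree, _, a => a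
  | .TF4, _, a => a

/-- the families -/
def Ys : List Art.Sh := [.E8, .E7, .E6, .TE6, .F4, .TD4, .TF4, .G2]

theorem dd_le {Y : Art.Sh} (hY : Y ∈ Ys) (q : ℕ) : Art.dd Y q ≤ 3 := by
  have h1 : Nat.gcd 3 (q - 1) ≤ 3 := Nat.gcd_le_left _ (by norm_num)
  have h2 : Nat.gcd 2 (q - 1) ≤ 2 := Nat.gcd_le_left _ (by norm_num)
  have h3 : Nat.gcd 3 (q + 1) ≤ 3 := Nat.gcd_le_left _ (by norm_num)
  simp only [Ys, List.mem_cons, List.not_mem_nil, or_false] at hY
  rcases hY with rfl | rfl | rfl | rfl | rfl | rfl | rfl | rfl <;> simp only [Art.dd] <;> omega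

theorem num_mono {Y : Art.Sh} (hY : Y ∈ Ys) {a b : ℕ} (h : a ≤ b) : Art.num Y a ≤ Art.num Y b := by
  have k : ∀ e : ℕ, a ^ e ≤ b ^ e := fun e => Nat.pow_le_pow_left h e
  have k1 : ∀ e : ℕ, a ^ e - 1 ≤ b ^ e - 1 := fun e => Nat.sub_le_sub_right (k e) 1
  have k2 : ∀ e : ℕ, a ^ e + 1 ≤ b ^ e + 1 := fun e => Nat.add_le_add_right (k e) 1
  have k3 : a - 1 ≤ b - 1 := Nat.sub_le_sub_right h 1
  have k4 : a ^ 8 + a ^ 4 + 1 ≤ b ^ 8 + b ^ 4 + 1 := Nat.add_le_add_right (Nat.add_le_add (k 8) (k 4)) 1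
  simp only [Ys, List.mem_cons, List.not_mem_nil, or_false] at hY
  rcases hY with rfl | rfl | rfl | rfl | rfl | rfl | rfl | rfl <;> simp only [Art.num] <;>
    repeat' first | exact k1 _ | exact k2 _ | exact k3 | exact k4 | apply Nat.mul_le_mul

/-! ### the test -/

/-- the bounds for `q` -/
def cands : List ℕ := [4, 8, 12, 16, 24, 32, 40, 50, 75, 120, 150, 460, 600, 700, 11500, 18500, 34000, 54000]

variable {α : Type} [DecidableEq α]

/-- the test for one group of order `t` -/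
def test (Y : Art.Sh) (lab : α) (al : List (α × ℕ)) (t l u N : ℕ) : Bool :=
  (List.range N).all fun q => Nat.ble q 1 || (q % l == 0 ||
    force (q ^ Art.NN Y * Art.num Y q) fun v => force (Art.dd Y q) fun d =>
      Nat.blt (u * d) v || (v % (t * d) != 0 || al.contains (lab, q)))

/-- the test with `|H|` a divisor of `B` -/
def chkT (Y : Art.Sh) (lab : α) (al : List (α × ℕ)) (t l B : ℕ) : Bool :=
  good B && force (UB B) fun u =>
    match cands.find? (fun N => Nat.blt (3 * u) (N ^ Art.NN Y * Art.num Y N)) with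
    | none => false
    | some N => test Y lab al t l u N

/-- the test for the region -/
def chk (Y : Art.Sh) (D : ℕ) (al : List ((Art.Sh × ℕ × ℕ) × ℕ)) : Bool :=
  (reg D).all fun x => force (od x.1 x.2.1 x.2.2) fun t => force (ouN x.1 x.2.1 x.2.2 * t) fun B =>
    chkT Y x al t x.2.1 B

theorem chkT_spec {Y : Art.Sh} (hY : Y ∈ Ys) {lab : α} {al : List (α × ℕ)} {t l B : ℕ}
    (h : chkT Y lab al t l B = true) {p f g : ℕ} (hG : Art.Real Y p f g) (hl : p ^ f % l ≠ 0) (hu : Ub B g)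
    (hd : t ∣ g) : (lab, p ^ f) ∈ al := by
  rw [chkT, Bool.and_eq_true, force_eq] at h
  obtain ⟨hB, h⟩ := h
  have hg := hu.le hB
  have hq : 2 ≤ p ^ f := hG.hp.two_le.trans (Nat.le_self_pow (by have := hG.hf; omega) p)
  cases hN : cands.find? (fun N => Nat.blt (3 * UB B) (N ^ Art.NN Y * Art.num Y N)) with
  | none => rw [hN] at h; exact absurd h (by simp)
  | some N =>
    rw [hN] at h
    have h1 := List.find?_some hN
    simp only [Nat.blt_eq] at h1
    have h2 : p ^ f < N := by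
      by_contra hcon
      push Not at hcon
      have h3 : N ^ Art.NN Y * Art.num Y N ≤ (p ^ f) ^ Art.NN Y * Art.num Y (p ^ f) :=
        Nat.mul_le_mul (Nat.pow_le_pow_left hcon _) (num_mono hY hcon)
      rw [← hG.eq] at h3
      have h4 : Art.dd Y (p ^ f) * g ≤ 3 * UB B := Nat.mul_le_mul (dd_le hY _) hg
      omega
    have h3 := List.all_eq_true.1 h (p ^ f) (List.mem_range.2 h2)
    rw [force_eq, force_eq] at h3
    simp only [Bool.or_eq_true, Nat.ble_eq, beq_iff_eq, Nat.blt_eq, bne_iff_ne, List.contains_iff_mem] at h3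
    rcases h3 with h3 | h3 | h3 | h3 | h3
    · omega
    · exact absurd h3 hl
    · exfalso
      rw [← hG.eq, mul_comm] at h3
      exact absurd (Nat.mul_le_mul_left (Art.dd Y (p ^ f)) hg) (by omega)
    · exfalso
      apply h3
      rw [← hG.eq, mul_comm t]
      exact Nat.mod_eq_zero_of_dvd (Nat.mul_dvd_mul_left _ hd)
    · exact h3

/-- **the table for the names of Lie type** -/
theorem chk_spec {Y : Art.Sh} (hY : Y ∈ Ys) {D : ℕ} {al : List ((Art.Sh × ℕ × ℕ) × ℕ)} (hc : chk Y D al = true)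
    {X : Art.Sh} {l a t p f g : ℕ} (hT : Art.Real X l a t) (hr : (X, (l, a)) ∈ reg D) (hG : Art.Real Y p f g)
    (hlp : l ≠ p) (hu : Ub (ouN X l a * t) g) (hd : t ∣ g) : ((X, (l, a)), p ^ f) ∈ al := by
  have h1 := List.all_eq_true.1 hc _ hr
  rw [force_eq, force_eq, ← real_eq hT] at h1
  refine chkT_spec hY h1 hG ?_ hu hd
  intro h2
  have h3 : l ∣ p ^ f := Nat.dvd_of_mod_eq_zero h2
  exact hlp ((Nat.prime_dvd_prime_iff_eq hT.hp hG.hp).1 (hT.hp.dvd_of_dvd_pow h3))

/-! ### alternating groups and the Tits group -/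

/-- `|Aut A_n|` -/
def autA (n : ℕ) : ℕ := if n = 6 then 1440 else n.factorial

/-- the test for the alternating groups of degree `5 ≤ n ≤ m` -/
def chkA (Y : Art.Sh) (m : ℕ) (al : List (ℕ × ℕ)) : Bool :=
  (List.range (m + 1)).all fun n => Nat.blt n 5 || force (n.factorial / 2) fun t => force (autA n) fun B =>
    chkT Y n al t 0 B

theorem chkA_spec {Y : Art.Sh} (hY : Y ∈ Ys) {m : ℕ} {al : List (ℕ × ℕ)} (hc : chkA Y m al = true)
    {n t p f g : ℕ} (h5 : 5 ≤ n) (hn : n ≤ m) (ht : 2 * t = n.factorial) (hG : Art.Real Y p f g)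
    (hu : Ub (autA n) g) (hd : t ∣ g) : (n, p ^ f) ∈ al := by
  have h1 := List.all_eq_true.1 hc n (List.mem_range.2 (by omega))
  rw [force_eq, force_eq, Bool.or_eq_true, Nat.blt_eq, show n.factorial / 2 = t by omega] at h1
  rcases h1 with h1 | h1
  · omega
  refine chkT_spec hY h1 hG ?_ hu hd
  rw [Nat.mod_zero]
  exact pow_ne_zero _ hG.hp.ne_zero

/-- the test for the Tits group -/
def chkTi (Y : Art.Sh) (al : List (Unit × ℕ)) : Bool := chkT Y () al 17971200 0 35942400

end Cfsg.Agent.H252.EN
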