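import Cfsg.Agent.H252.EN.Tab

/-!
# S5745, layer ENUM: the kernel checks of the tables, `E₆`, `²E₆` (helper252)
-/

set_option autoImplicit false

namespace Cfsg.Agent.H252.EN

open Cfsg.Agent.H902 Cfsg.Agent.H290.ElReg Cfsg.Agent.H290.ElTab

set_option maxRecDepth 100000

/-- `E₆(q)` -/
def alE6 : List ((Art.Sh × ℕ × ℕ) × ℕ) :=
  [((.C 2, (2, 3)), 3), ((.U 3, (3, 2)), 2), ((.L 4, (3, 1)), 2), ((.U 4, (3, 1)), 2), ((.D 4, (2, 1)), 3),
   ((.U 6, (2, 1)), 3), ((.D 6, (2, 1)), 33), ((.G2, (2, 2)), 3), ((.G2, (3, 1)), 2)]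

theorem chk_e6 : chk .E6 78 alE6 = true := by decide +kernel

theorem chkA_e6 : chkA .E6 12 [(10, 2)] = true := by decide +kernel

theorem chkTi_e6 : chkTi .E6 [((), 2)] = true := by decide +kernel

/-- `²E₆(q)` -/
def alTE6 : List ((Art.Sh × ℕ × ℕ) × ℕ) :=
  [((.C 2, (2, 3)), 3), ((.C 3, (3, 1)), 2), ((.L 4, (3, 1)), 2), ((.U 4, (3, 1)), 2), ((.D 4, (2, 1)), 3),
   ((.G2, (2, 2)), 3), ((.G2, (2, 3)), 3), ((.G2, (3, 1)), 2)]

theorem chk_te6 : chk .TE6 78 alTE6 = true := by decide +kernel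

theorem chkA_te6 : chkA .TE6 12 [(10, 2), (11, 2), (12, 2)] = true := by decide +kernel

theorem chkTi_te6 : chkTi .TE6 [((), 2)] = true := by decide +kernel

end Cfsg.Agent.H252.EN
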