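import Cfsg.Agent.H252.EN.Tab

/-!
# S5745, layer ENUM: the kernel checks of the tables, `F₄`, `³D₄` (helper252)
-/

set_option autoImplicit false

namespace Cfsg.Agent.H252.EN

open Cfsg.Agent.H902 Cfsg.Agent.H290.ElReg Cfsg.Agent.H290.ElTab

set_option maxRecDepth 100000

/-! ### Cutting the checks into pieces (helper937, memory of the kernel check) -/

section Pieces

variable {α : Type} [DecidableEq α]

/-- the test for one `q` -/
def tcQ (Y : Art.Sh) (lab : α) (al : List (α × ℕ)) (t l u q : ℕ) : Bool :=
  Nat.ble q 1 || (q % l == 0 ||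
    force (q ^ Art.NN Y * Art.num Y q) fun v => force (Art.dd Y q) fun d =>
      Nat.blt (u * d) v || (v % (t * d) != 0 || al.contains (lab, q)))

/-- the test for `a ≤ q < a + n` -/
def tcSeg (Y : Art.Sh) (lab : α) (al : List (α × ℕ)) (t l u a n : ℕ) : Bool :=
  (List.range n).all fun i => tcQ Y lab al t l u (a + i)

theorem tc_add {Y : Art.Sh} {lab : α} {al : List (α × ℕ)} {t l u : ℕ} (a b : ℕ)
    (h1 : (List.range a).all (tcQ Y lab al t l u) = true) (h2 : tcSeg Y lab al t l u a b = true) :
    (List.range (a + b)).all (tcQ Y lab al t l u) = true := by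
  rw [List.range_add, List.all_append, h1, List.all_map]
  exact h2

theorem tc_of {Y : Art.Sh} {lab : α} {al : List (α × ℕ)} {t l B u N : ℕ} (h1 : good B = true) (h2 : UB B = u)
    (h3 : cands.find? (fun N => Nat.blt (3 * u) (N ^ Art.NN Y * Art.num Y N)) = some N)
    (h4 : (List.range N).all (tcQ Y lab al t l u) = true) : chkT Y lab al t l B = true := by
  rw [chkT, h1, force_eq, h2, h3]
  exact h4

end Pieces

/-- the test for one name -/
def tcEnt (Y : Art.Sh) (al : List ((Art.Sh × ℕ × ℕ) × ℕ)) (x : Art.Sh × ℕ × ℕ) : Bool :=
  force (od x.1 x.2.1 x.2.2) fun t => force (ouN x.1 x.2.1 x.2.2 * t) fun B => chkT Y x al t x.2.1 B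

theorem tc_ent {Y : Art.Sh} {al : List ((Art.Sh × ℕ × ℕ) × ℕ)} {x : Art.Sh × ℕ × ℕ} {t B : ℕ}
    (ht : od x.1 x.2.1 x.2.2 = t) (hB : ouN x.1 x.2.1 x.2.2 * t = B) (h : chkT Y x al t x.2.1 B = true) :
    [x].all (tcEnt Y al) = true := by
  subst ht
  subst hB
  rw [List.all_cons, List.all_nil, Bool.and_true, tcEnt, force_eq, force_eq]
  exact h

/-- `F₄(q)` -/
def alF4 : List ((Art.Sh × ℕ × ℕ) × ℕ) :=
  [((.L 2, (3, 3)), 2), ((.L 2, (5, 2)), 2), ((.L 2, (7, 2)), 2), ((.C 2, (3, 1)), 2), ((.L 4, (3, 1)), 2),
   ((.C 4, (2, 1)), 9), ((.U 4, (3, 1)), 2), ((.D 4, (2, 1)), 3), ((.D 4, (2, 1)), 5), ((.L 6, (2, 1)), 5),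
   ((.G2, (2, 2)), 3), ((.G2, (2, 2)), 5), ((.G2, (3, 1)), 2), ((.TD4, (2, 1)), 3), ((.TD4, (2, 1)), 5)]

theorem f4_x72_s0 : (List.range 9250).all (tcQ .F4 (((.DD 7, (2, 1))) : Art.Sh × ℕ × ℕ) alF4 1718194449153210615595008000 2
    235359598883035140800113505273109703715378618052360420678427286947889231226574345480101627359942991320300591546601039673853283713346817042520308705951367438039758778844855787710515895566829891448021801008382348168790016000) = true := by
  decide +kernel

theorem f4_x72_s1 : tcSeg .F4 (((.DD 7, (2, 1))) : Art.Sh × ℕ × ℕ) alF4 1718194449153210615595008000 2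
    235359598883035140800113505273109703715378618052360420678427286947889231226574345480101627359942991320300591546601039673853283713346817042520308705951367438039758778844855787710515895566829891448021801008382348168790016000 9250 9250 = true := by
  decide +kernel

theorem f4_x72 : [(((.DD 7, (2, 1))) : Art.Sh × ℕ × ℕ)].all (tcEnt .F4 alF4) = true :=
  tc_ent (t := 1718194449153210615595008000) (B := 3436388898306421231190016000) (by decide +kernel) (by decide +kernel)
    (tc_of (u := 235359598883035140800113505273109703715378618052360420678427286947889231226574345480101627359942991320300591546601039673853283713346817042520308705951367438039758778844855787710515895566829891448021801008382348168790016000)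
      (N := 18500) (by decide +kernel) (by decide +kernel) (by decide +kernel)
      (tc_add 9250 9250 f4_x72_s0 f4_x72_s1))

theorem f4_A : ((reg 52).take 69).all (tcEnt .F4 alF4) = true := by decide +kernel

theorem f4_C : (((reg 52).drop 69).take 3).all (tcEnt .F4 alF4) = true := by decide +kernel

theorem f4_G : ((reg 52).drop 73).all (tcEnt .F4 alF4) = true := by decide +kernel

theorem f4_reg : reg 52 = (reg 52).take 69 ++ (((reg 52).drop 69).take 3 ++
    ([(.DD 7, (2, 1))] ++ (reg 52).drop 73)) := by decide +kernel

theorem chk_f4 : chk .F4 52 alF4 = true := by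
  show (reg 52).all (tcEnt .F4 alF4) = true
  rw [f4_reg, List.all_append, List.all_append, List.all_append, f4_A, f4_C, f4_x72, f4_G]
  rfl

theorem chkA_f4 : chkA .F4 11 [(8, 2), (9, 2), (10, 2), (10, 3)] = true := by decide +kernel

theorem chkTi_f4 : chkTi .F4 [((), 2), ((), 3), ((), 4)] = true := by decide +kernel

/-- `³D₄(q)` -/
def alTD4 : List ((Art.Sh × ℕ × ℕ) × ℕ) :=
  [((.L 2, (3, 3)), 2), ((.L 2, (3, 3)), 4), ((.L 2, (7, 1)), 2), ((.L 2, (7, 2)), 4), ((.L 2, (7, 2)), 5),
   ((.L 2, (13, 1)), 2), ((.C 2, (3, 1)), 4), ((.L 3, (2, 2)), 5), ((.L 3, (3, 1)), 2), ((.U 3, (3, 1)), 2),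
   ((.L 4, (3, 1)), 10), ((.U 4, (3, 1)), 10)]

theorem td_x37_s0 : (List.range 11500).all (tcQ .TD4 (((.C 4, (3, 1))) : Art.Sh × ℕ × ℕ) alTD4 65784756654489600 3
    1312754989745661528702079362661557395130404469686321190988302002729109102961459200) = true := by
  decide +kernel

theorem td_x37 : [(((.C 4, (3, 1))) : Art.Sh × ℕ × ℕ)].all (tcEnt .TD4 alTD4) = true :=
  tc_ent (t := 65784756654489600) (B := 131569513308979200) (by decide +kernel) (by decide +kernel)
    (tc_of (u := 1312754989745661528702079362661557395130404469686321190988302002729109102961459200)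
      (N := 11500) (by decide +kernel) (by decide +kernel) (by decide +kernel)
      (td_x37_s0))

theorem td_x48_s0 : (List.range 11500).all (tcQ .TD4 (((.DD 5, (3, 1))) : Art.Sh × ℕ × ℕ) alTD4 650084965259666227200 3
    12161845360870666363665097209394999859955266365628053298634864384715760768576281895787165064941752709430581657600) = true := by
  decide +kernel

theorem td_x48 : [(((.DD 5, (3, 1))) : Art.Sh × ℕ × ℕ)].all (tcEnt .TD4 alTD4) = true :=
  tc_ent (t := 650084965259666227200) (B := 5200679722077329817600) (by decide +kernel) (by decide +kernel)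
    (tc_of (u := 12161845360870666363665097209394999859955266365628053298634864384715760768576281895787165064941752709430581657600)
      (N := 11500) (by decide +kernel) (by decide +kernel) (by decide +kernel)
      (td_x48_s0))

theorem td_x50_s0 : (List.range 9000).all (tcQ .TD4 (((.DD 6, (2, 1))) : Art.Sh × ℕ × ℕ) alTD4 51615733565620224000 2
    946630107705339014605300725552689633330601743944790226420326562664667261445514614834573966454749504133577747625648884965806440448000) = true := by
  decide +kernel

theorem td_x50_s1 : tcSeg .TD4 (((.DD 6, (2, 1))) : Art.Sh × ℕ × ℕ) alTD4 51615733565620224000 2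
    946630107705339014605300725552689633330601743944790226420326562664667261445514614834573966454749504133577747625648884965806440448000 9000 9000 = true := by
  decide +kernel

theorem td_x50_s2 : tcSeg .TD4 (((.DD 6, (2, 1))) : Art.Sh × ℕ × ℕ) alTD4 51615733565620224000 2
    946630107705339014605300725552689633330601743944790226420326562664667261445514614834573966454749504133577747625648884965806440448000 18000 9000 = true := by
  decide +kernel

theorem td_x50_s3 : tcSeg .TD4 (((.DD 6, (2, 1))) : Art.Sh × ℕ × ℕ) alTD4 51615733565620224000 2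
    946630107705339014605300725552689633330601743944790226420326562664667261445514614834573966454749504133577747625648884965806440448000 27000 9000 = true := by
  decide +kernel

theorem td_x50_s4 : tcSeg .TD4 (((.DD 6, (2, 1))) : Art.Sh × ℕ × ℕ) alTD4 51615733565620224000 2
    946630107705339014605300725552689633330601743944790226420326562664667261445514614834573966454749504133577747625648884965806440448000 36000 9000 = true := by
  decide +kernel

theorem td_x50_s5 : tcSeg .TD4 (((.DD 6, (2, 1))) : Art.Sh × ℕ × ℕ) alTD4 51615733565620224000 2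
    946630107705339014605300725552689633330601743944790226420326562664667261445514614834573966454749504133577747625648884965806440448000 45000 9000 = true := by
  decide +kernel

theorem td_x50 : [(((.DD 6, (2, 1))) : Art.Sh × ℕ × ℕ)].all (tcEnt .TD4 alTD4) = true :=
  tc_ent (t := 51615733565620224000) (B := 103231467131240448000) (by decide +kernel) (by decide +kernel)
    (tc_of (u := 946630107705339014605300725552689633330601743944790226420326562664667261445514614834573966454749504133577747625648884965806440448000)
      (N := 54000) (by decide +kernel) (by decide +kernel) (by decide +kernel)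
      (tc_add 45000 9000 (tc_add 36000 9000 (tc_add 27000 9000 (tc_add 18000 9000 (tc_add 9000 9000 td_x50_s0 td_x50_s1) td_x50_s2) td_x50_s3) td_x50_s4) td_x50_s5))

theorem td_A : ((reg 28).take 37).all (tcEnt .TD4 alTD4) = true := by decide +kernel

theorem td_C : (((reg 28).drop 38).take 10).all (tcEnt .TD4 alTD4) = true := by decide +kernel

theorem td_E : (((reg 28).drop 49).take 1).all (tcEnt .TD4 alTD4) = true := by decide +kernel

theorem td_G : ((reg 28).drop 51).all (tcEnt .TD4 alTD4) = true := by decide +kernel

theorem td_reg : reg 28 = (reg 28).take 37 ++ ([(.C 4, (3, 1))] ++ (((reg 28).drop 38).take 10 ++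
    ([(.DD 5, (3, 1))] ++ (((reg 28).drop 49).take 1 ++ ([(.DD 6, (2, 1))] ++ (reg 28).drop 51))))) := by decide +kernel

theorem chk_td4 : chk .TD4 28 alTD4 = true := by
  show (reg 28).all (tcEnt .TD4 alTD4) = true
  rw [td_reg, List.all_append, List.all_append, List.all_append, List.all_append, List.all_append, List.all_append,
    td_A, td_x37, td_C, td_x48, td_E, td_x50, td_G]
  rfl

theorem chkA_td4 : chkA .TD4 11 [(8, 4), (9, 4), (9, 5), (10, 4), (10, 6), (11, 10)] = true := by decide +kernel

theorem chkTi_td4 : chkTi .TD4 [((), 4), ((), 6), ((), 10), ((), 14)] = true := by decide +kernel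

end Cfsg.Agent.H252.EN
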