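import Cfsg.Agent.H252.EN.TabF

/-!
# S5745, layer ENUM, `T ^ k`, `k ≥ 2`: kernel checks (helper252)
-/

set_option autoImplicit false

namespace Cfsg.Agent.H252.EN

open Cfsg.Agent.H902 Cfsg.Agent.H290.ElReg Cfsg.Agent.H290.ElTab Cfsg.Agent.H746.EK

set_option maxRecDepth 100000

theorem data_rg : reg 124 = Tb.map Prod.fst := by decide +kernel

theorem data_b : Tb.all okB = true := by decide +kernel

theorem data_a : Ta.all okA = true := by decide +kernel

theorem data_t : facOk 17971200 = true ∧ Lc 17971200 = 27218402342866006 := by decide +kernel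

/-- the data of the tables -/
theorem data : Data := ⟨data_rg, data_b, data_a, data_t⟩

end Cfsg.Agent.H252.EN
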