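import Cfsg.Agent.H894.EK.GlueC
import Cfsg.Agent.H252.EN.TabKI

/-!
# S5745, `CrossK`: the table input of `E₈(q)` (helper252)
-/

set_option autoImplicit false

namespace Cfsg.Agent.H252.EN

theorem tabE8 : H894.EK.TabE8 := ⟨chkK_e8, chkKA_e8, chkKTi_e8⟩

end Cfsg.Agent.H252.EN
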