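import Cfsg.Agent.H252.EN.Tab
import Cfsg.Agent.H226.EX.Glue
import Cfsg.Agent.H59.EP.UBGenFin

/-!
# S5745, layer ENUM: the bound `Ub` for `EPS` (helper252)
-/

set_option autoImplicit false

namespace Cfsg.Agent.H252.EN

open Subgroup Cfsg.Agent.H284 Cfsg.Agent.H209.EPX Cfsg.Agent.H59.EP Cfsg.Agent.H226.EX

variable {G : Type} [Group G] [Finite G] [IsSimpleGroup G] {H N : Subgroup G} {T : Type} [Group T]

/-- the bound if `|H|` divides `B` -/
theorem ub_of_dvd {k : ℕ} {e : N ≃* (Fin k → T)} (h : EPS H N e) {B : ℕ} (hd : Nat.card H ∣ B) :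
    Ub B (Nat.card G) := by
  intro l h1 h2 hB hlt
  have h3 : Nat.card H ∣ (l.map fun x => x.1 ^ x.2).prod := by rwa [hB]
  have h4 := EPT.index_le_gen_fin inferInstance (ept_of_eps h) (hab_of_eps h) l h1 h2 h3 (by rwa [hB])
  rw [hB] at h4
  have hB0 : 0 < B := by
    obtain ⟨_, i2, _⟩ := galSum_list l h1 h2
    rw [hB] at i2
    omega
  have h5 : Nat.card H ≤ B := Nat.le_of_dvd hB0 hd
  rw [← H.index_mul_card, ubl]
  refine Nat.mul_le_mul (h4.trans (Nat.add_le_add_left (Nat.mul_le_mul_left _ ?_) 1)) h5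
  exact Nat.mul_le_mul_left 2 (Nat.div_le_div_right h5)

/-- the bound for `k = 1` if `|Aut T|` divides `B` -/
theorem ub_eps [Finite T] {e : N ≃* (Fin 1 → T)} (h : EPS H N e) {B : ℕ} (hd : Nat.card (MulAut T) ∣ B) :
    Ub B (Nat.card G) := ub_of_dvd h ((card_dvd_aut h).trans hd)

/-- `|T|` divides `|G|` -/
theorem card_dvd_G {e : N ≃* (Fin 1 → T)} (h : EPS H N e) : Nat.card T ∣ Nat.card G :=
  (dvd_card h).trans (Subgroup.card_subgroup_dvd_card H)

end Cfsg.Agent.H252.EN
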